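import Groth.Agent.Lib.DBaseChange.FibreDim
import Groth.Agent.Lib.DBaseChange.Nilp2
import Groth.Agent.Lib.DBaseChange.ResLocal
import Groth.Agent.Lib.DBaseChange.Fibre
import Groth.Agent.Lib.TorBal.Perfect
import Groth.Agent.Lib.RegLoc.GlobalDim
import Mathlib.Algebra.Homology.DerivedCategory.ExactFunctor
import Mathlib.RingTheory.LocalRing.ResidueField.Ideal
import Mathlib.RingTheory.TensorProduct.Quotient
import Mathlib.RingTheory.TensorProduct.Maps
import Mathlib.RingTheory.Flat.Stability
import Groth.Agent.Lib.SmoothReg17.Basic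
import Groth.Agent.Lib.DCpl.FiniteCpl
import Groth.Agent.Lib.RelPC8.Via
import Mathlib.RingTheory.KrullDimension.Polynomial
import Mathlib.RingTheory.Smooth.Flat
import Mathlib.RingTheory.RingHom.Smooth

/-!
Perfectness over a flat algebra from finite global dimension of the fibres.
-/

set_option autoImplicit false
set_option linter.style.haveILetI false
set_option backward.isDefEq.respectTransparency false

universe u

open CategoryTheory CategoryTheory.Limits MonoidalCategory
open scoped TensorProduct

attribute [local instance] HasDerivedCategory.standard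

namespace Groth.Agent.SmoothPerf9

open DBaseChange

variable {A B : Type u} [CommRing A] [CommRing B] [Algebra A B]

theorem subsingleton_homology_flat {C S : Type u} [CommRing C] [CommRing S] (ψ : B →+* C) (χ : C →+* S)
    (hχ : χ.Flat) (F : DRing.Cx B) (l : ℤ) (h : Subsingleton (((extCx ψ).obj F).homology l)) :
    Subsingleton (((extCx (χ.comp ψ)).obj F).homology l) := by
  haveI : PreservesFiniteLimits (ModuleCat.extendScalars.{u, u, u} χ) :=
    ModuleCat.preservesFiniteLimits_extendScalars_of_flat.{u} hχ
  refine ((HomologicalComplex.homologyFunctor _ _ l).mapIso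
    (extCompIso ψ χ F)).toLinearEquiv.toEquiv.subsingleton_congr.2 ?_
  have hz : IsZero (((extCx ψ).obj F).homology l) := (DMod.isZero_iff_subsingleton _).2 h
  exact (DMod.isZero_iff_subsingleton _).1 (((ModuleCat.extendScalars.{u, u, u} χ).map_isZero hz).of_iso
    ((((extCx ψ).obj F).sc l).mapHomologyIso (ModuleCat.extendScalars.{u, u, u} χ)))

/-- The maximal ideals of the local rings of the fibres need boundedly many generators. -/
theorem exists_spanFinrank_le {n : ℕ} (π : MvPolynomial (Fin n) A →ₐ[A] B) (hπ : Function.Surjective π)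
    (κ : Type u) [Field κ] [Algebra A κ] (q : Ideal (κ ⊗[A] B)) [q.IsPrime]
    [IsRegularLocalRing (Localization.AtPrime q)] :
    ∃ d' : ℕ, (IsLocalRing.maximalIdeal (Localization.AtPrime q)).spanFinrank = d' ∧ d' ≤ n := by
  refine ⟨_, rfl, ?_⟩
  let g : MvPolynomial (Fin n) κ →ₐ[κ] κ ⊗[A] B := MvPolynomial.aeval fun i => 1 ⊗ₜ[A] π (MvPolynomial.X i)
  have hg : Function.Surjective g := fun z => by
    induction z using TensorProduct.induction_on with
    | zero => exact ⟨0, map_zero _⟩
    | add x y hx hy =>
      obtain ⟨p, rfl⟩ := hx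
      obtain ⟨q, rfl⟩ := hy
      exact ⟨p + q, map_add _ _ _⟩
    | tmul k b =>
      obtain ⟨P, rfl⟩ := hπ b
      refine ⟨MvPolynomial.C k * MvPolynomial.map (algebraMap A κ) P, ?_⟩
      have h : (g.restrictScalars A).comp (MvPolynomial.mapAlgHom (Algebra.ofId A κ)) =
          (Algebra.TensorProduct.includeRight : B →ₐ[A] κ ⊗[A] B).comp π := by
        refine MvPolynomial.algHom_ext fun i => ?_
        simp [g, Algebra.ofId]
      have h' : g (MvPolynomial.map (algebraMap A κ) P) = (1 : κ) ⊗ₜ[A] π P := DFunLike.congr_fun h P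
      rw [map_mul, h']
      simp [g, Algebra.TensorProduct.algebraMap_apply]
  have h1 : ringKrullDim (κ ⊗[A] B) ≤ n := by
    refine (ringKrullDim_le_of_surjective g.toRingHom hg).trans ?_
    rw [MvPolynomial.ringKrullDim_of_isNoetherianRing, ringKrullDim_eq_zero_of_field]
    simp
  have h2 : ringKrullDim (Localization.AtPrime q) ≤ n := by
    rw [IsLocalization.AtPrime.ringKrullDim_eq_height q (Localization.AtPrime q)]
    exact Ideal.height_le_ringKrullDim_of_isPrime.trans h1
  rw [← IsRegularLocalRing.spanFinrank_maximalIdeal (R := Localization.AtPrime q)] at h2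
  exact_mod_cast h2

/-- Over a smooth algebra, pseudo-coherence with finite tor dimension over the base gives perfectness. -/
theorem isPerfect_of_smooth [Algebra.Smooth A B] (a b : ℤ) (K : Dual.D B) (hK : DRing.IsPseudoCoherent' B K)
    (hKa : DRing.HasTorAmplitudeIn A a b ((DRing.restrictD (algebraMap A B)).obj K)) :
    DRing.IsPerfect B K := by
  haveI : _root_.Module.Flat A B := inferInstance
  obtain ⟨n, π, hπ⟩ := RelPC8.exists_presentation A B
  obtain ⟨F, Bd, hBd, hF, ⟨e⟩⟩ := id hK
  haveI := (DMod.vanishesAbove_iff F Bd).1 hBd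
  let r := DRing.restrictCx (algebraMap A B)
  haveI : (r.obj F).IsStrictlyLE Bd := (CochainComplex.isStrictlyLE_iff _ _).2 fun j hj =>
    Functor.map_isZero (ModuleCat.restrictScalars.{u} (algebraMap A B)) (F.isZero_of_isStrictlyLE Bd j hj)
  have hrF : ∀ i, _root_.Module.Flat A ((r.obj F).X i) := fun i => by
    haveI := (hF i).2
    exact flat_res (F.X i)
  have hb := torBound_of_hasTorAmplitudeIn (r.obj F) Bd hrF a b (hasTorAmplitudeIn_of_iso
    ((DRing.restrictD (algebraMap A B)).mapIso e.symm ≪≫
      (ModuleCat.restrictScalars.{u} (algebraMap A B)).mapDerivedCategoryFactors.app F) hKa)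
  have ht : DRing.HasTorAmplitudeIn B (a - n) b (DRing.toD F) := by
    refine torAmp_of_fibre_rings F Bd hF a b n fun m hm => ?_
    let p : PrimeSpectrum A := ⟨m.comap (algebraMap A B), inferInstance⟩
    letI := Ideal.Quotient.field m
    have hf₂ : p.asIdeal.primeCompl ≤ (IsUnit.submonoid (B ⧸ m)).comap (Algebra.ofId A (B ⧸ m)) :=
      fun x hx => by
        refine isUnit_iff_ne_zero.2 fun h0 => hx ?_
        exact (Ideal.Quotient.eq_zero_iff_mem (I := m)).1 h0
    let f : p.asIdeal.ResidueField →ₐ[A] B ⧸ m :=
      Ideal.ResidueField.liftₐ p.asIdeal (Algebra.ofId A (B ⧸ m))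
        (fun x hx => RingHom.mem_ker.2 (Ideal.Quotient.eq_zero_iff_mem.2 hx)) hf₂
    let χ : TensorProduct A p.asIdeal.ResidueField B →ₐ[A] B ⧸ m :=
      Algebra.TensorProduct.lift f (Ideal.Quotient.mkₐ A m) fun _ _ => Commute.all _ _
    let ψ : B →+* TensorProduct A p.asIdeal.ResidueField B :=
      (Algebra.TensorProduct.includeRight : B →ₐ[A] _).toRingHom
    let N := ModuleCat.of A p.asIdeal.ResidueField
    let C := TensorProduct A p.asIdeal.ResidueField B
    let q : Ideal C := RingHom.ker χ.toRingHom
    haveI : q.IsPrime := RingHom.ker_isPrime _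
    haveI : Algebra.Smooth p.asIdeal.ResidueField C := inferInstance
    haveI : IsNoetherianRing C := Algebra.FiniteType.isNoetherianRing p.asIdeal.ResidueField C
    let S := Localization.AtPrime q
    haveI : IsRegularLocalRing S :=
      SmoothReg17.isRegularLocalRing_of_smooth (algebraMap p.asIdeal.ResidueField C)
        (RingHom.smooth_algebraMap.2 inferInstance) q
    let θ : S →+* B ⧸ m := IsLocalization.lift (M := q.primeCompl) (g := χ.toRingHom) fun x =>
      isUnit_iff_ne_zero.2 fun h0 => x.2 (RingHom.mem_ker.2 h0)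
    let ψ' : B →+* S := (algebraMap C S).comp ψ
    obtain ⟨d', hd', hdn⟩ := exists_spanFinrank_le π hπ p.asIdeal.ResidueField q
    refine ⟨S, inferInstance, ψ', θ, RingHom.ext fun x => ?_,
      fun M _ _ => TorBal.amplitude_of_pd n M ?_, fun l hl => ?_⟩
    · show θ (algebraMap C S (ψ x)) = Ideal.Quotient.mk m x
      rw [IsLocalization.lift_eq]
      show f 1 * Ideal.Quotient.mk m x = Ideal.Quotient.mk m x
      rw [map_one, one_mul]
    · haveI := RegLoc.hasProjectiveDimensionLT_of_regular hd' (ModuleCat.of S M)
      exact hasProjectiveDimensionLT_of_ge (ModuleCat.of S M) (d' + 1) (n + 1) (by omega)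
    · refine subsingleton_homology_flat ψ (algebraMap C S)
        (RingHom.flat_algebraMap_iff.2 (IsLocalization.flat S q.primeCompl)) F l ?_
      let c := TensorProduct.comm A B p.asIdeal.ResidueField
      let e : ModuleCat.of B (B ⊗[A] N) ≅ algMod ψ := LinearEquiv.toModuleIso
        ({ c.toAddEquiv with
            map_smul' := fun x z => by
              show c (x • (z : B ⊗[A] p.asIdeal.ResidueField)) = ψ x * c z
              induction z using TensorProduct.induction_on with
              | zero => simp
              | add z w hz hw => rw [smul_add, map_add, map_add, hz, hw, mul_add]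
              | tmul y k => simp [c, ψ, TensorProduct.smul_tmul', Algebra.TensorProduct.tmul_mul_tmul] } :
          (B ⊗[A] p.asIdeal.ResidueField) ≃ₗ[B] algMod ψ)
      refine subsingleton_homology_fibre N ψ e F l ((DMod.subsingleton_HD_toD_iff _ l).1 ?_)
      rcases hl with hl | hl
      · exact (DMod.isGE_iff _ a).1 (hb N).1 l hl
      · exact (DMod.isLE_iff _ b).1 (hb N).2 l hl
  have ht' := hasTorAmplitudeIn_of_iso e ht
  exact isPerfect_of_pc_of_torAmp hK ht'

end Groth.Agent.SmoothPerf9
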